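import Cfsg.Agent.Cod.Defs

set_option autoImplicit false
set_option maxRecDepth 1000000
set_option maxHeartbeats 0
set_option Elab.async false

namespace CF.G23

open CF.Comp CF.Cod

/-- relators of the involution centraliser -/
noncomputable def RH : List (List Nat) := [[(nat_lit 1), (nat_lit 1), (nat_lit 1)],
  [(nat_lit 1), (nat_lit 3), (nat_lit 1), (nat_lit 3), (nat_lit 1), (nat_lit 3)],
  [(nat_lit 3), (nat_lit 3), (nat_lit 1), (nat_lit 4), (nat_lit 4), (nat_lit 2)],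
  [(nat_lit 3), (nat_lit 3), (nat_lit 3), (nat_lit 3)],
  [(nat_lit 5), (nat_lit 5), (nat_lit 5)],
  [(nat_lit 5), (nat_lit 7), (nat_lit 5), (nat_lit 7), (nat_lit 5), (nat_lit 7)],
  [(nat_lit 3), (nat_lit 3), (nat_lit 8), (nat_lit 8)],
  [(nat_lit 1), (nat_lit 5), (nat_lit 2), (nat_lit 6)],
  [(nat_lit 1), (nat_lit 7), (nat_lit 2), (nat_lit 8)],
  [(nat_lit 3), (nat_lit 5), (nat_lit 4), (nat_lit 6)],
  [(nat_lit 3), (nat_lit 7), (nat_lit 4), (nat_lit 8)],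
  [(nat_lit 9), (nat_lit 9)],
  [(nat_lit 9), (nat_lit 1), (nat_lit 9), (nat_lit 1)],
  [(nat_lit 9), (nat_lit 3), (nat_lit 9), (nat_lit 3)],
  [(nat_lit 9), (nat_lit 5), (nat_lit 9), (nat_lit 5)],
  [(nat_lit 9), (nat_lit 7), (nat_lit 9), (nat_lit 7)]]

/-- relators of the centraliser of a four-group -/
noncomputable def RR : List (List Nat) := [[(nat_lit 1), (nat_lit 1), (nat_lit 1), (nat_lit 1)],
  [(nat_lit 1), (nat_lit 1), (nat_lit 4), (nat_lit 4)],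
  [(nat_lit 1), (nat_lit 3), (nat_lit 2), (nat_lit 4)],
  [(nat_lit 5), (nat_lit 5)],
  [(nat_lit 5), (nat_lit 1), (nat_lit 5), (nat_lit 1)],
  [(nat_lit 5), (nat_lit 3), (nat_lit 5), (nat_lit 3)],
  [(nat_lit 7), (nat_lit 7)],
  [(nat_lit 7), (nat_lit 1), (nat_lit 7), (nat_lit 1)],
  [(nat_lit 7), (nat_lit 3), (nat_lit 7), (nat_lit 3)],
  [(nat_lit 7), (nat_lit 5), (nat_lit 7), (nat_lit 6), (nat_lit 4), (nat_lit 2)]]

/-- relators of the amalgam -/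
noncomputable def RA : List (List Nat) := [[(nat_lit 1), (nat_lit 1), (nat_lit 1)],
  [(nat_lit 1), (nat_lit 3), (nat_lit 1), (nat_lit 3), (nat_lit 1), (nat_lit 3)],
  [(nat_lit 3), (nat_lit 3), (nat_lit 1), (nat_lit 4), (nat_lit 4), (nat_lit 2)],
  [(nat_lit 3), (nat_lit 3), (nat_lit 3), (nat_lit 3)],
  [(nat_lit 5), (nat_lit 5), (nat_lit 5)],
  [(nat_lit 5), (nat_lit 7), (nat_lit 5), (nat_lit 7), (nat_lit 5), (nat_lit 7)],
  [(nat_lit 3), (nat_lit 3), (nat_lit 8), (nat_lit 8)],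
  [(nat_lit 1), (nat_lit 5), (nat_lit 2), (nat_lit 6)],
  [(nat_lit 1), (nat_lit 7), (nat_lit 2), (nat_lit 8)],
  [(nat_lit 3), (nat_lit 5), (nat_lit 4), (nat_lit 6)],
  [(nat_lit 3), (nat_lit 7), (nat_lit 4), (nat_lit 8)],
  [(nat_lit 9), (nat_lit 9)],
  [(nat_lit 9), (nat_lit 1), (nat_lit 9), (nat_lit 1)],
  [(nat_lit 9), (nat_lit 3), (nat_lit 9), (nat_lit 3)],
  [(nat_lit 9), (nat_lit 5), (nat_lit 9), (nat_lit 5)],
  [(nat_lit 9), (nat_lit 7), (nat_lit 9), (nat_lit 7)],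
  [(nat_lit 11), (nat_lit 11), (nat_lit 11)],
  [(nat_lit 11), (nat_lit 3), (nat_lit 12), (nat_lit 10), (nat_lit 5), (nat_lit 8), (nat_lit 6), (nat_lit 1), (nat_lit 4), (nat_lit 2)],
  [(nat_lit 11), (nat_lit 7), (nat_lit 12), (nat_lit 10), (nat_lit 5), (nat_lit 7), (nat_lit 6), (nat_lit 1), (nat_lit 4), (nat_lit 2)],
  [(nat_lit 11), (nat_lit 9), (nat_lit 12), (nat_lit 10), (nat_lit 3)],
  [(nat_lit 11), (nat_lit 1), (nat_lit 3), (nat_lit 2), (nat_lit 5), (nat_lit 7), (nat_lit 6), (nat_lit 12), (nat_lit 6), (nat_lit 7), (nat_lit 5), (nat_lit 2), (nat_lit 4), (nat_lit 1)],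
  [(nat_lit 1), (nat_lit 3), (nat_lit 2), (nat_lit 11), (nat_lit 1), (nat_lit 3), (nat_lit 2), (nat_lit 11)]]

/-- elements of order three inverted by `t` -/
noncomputable def YZ : List (List Nat) := [[(nat_lit 1)],
  [(nat_lit 3), (nat_lit 1), (nat_lit 4)],
  [(nat_lit 5)],
  [(nat_lit 7), (nat_lit 5), (nat_lit 8)],
  [(nat_lit 1), (nat_lit 5)],
  [(nat_lit 1), (nat_lit 6)],
  [(nat_lit 1), (nat_lit 7), (nat_lit 5), (nat_lit 8)],
  [(nat_lit 1), (nat_lit 7), (nat_lit 6), (nat_lit 8)],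
  [(nat_lit 3), (nat_lit 1), (nat_lit 4), (nat_lit 5)],
  [(nat_lit 3), (nat_lit 1), (nat_lit 4), (nat_lit 6)],
  [(nat_lit 3), (nat_lit 1), (nat_lit 4), (nat_lit 7), (nat_lit 5), (nat_lit 8)],
  [(nat_lit 3), (nat_lit 1), (nat_lit 4), (nat_lit 7), (nat_lit 6), (nat_lit 8)]]

/-- the two commutators -/
noncomputable def RC : List (List (List Nat)) := [[[(nat_lit 11), (nat_lit 1), (nat_lit 6), (nat_lit 12), (nat_lit 1), (nat_lit 11), (nat_lit 5), (nat_lit 2), (nat_lit 12), (nat_lit 1), (nat_lit 11), (nat_lit 1), (nat_lit 6), (nat_lit 12), (nat_lit 2), (nat_lit 11), (nat_lit 5), (nat_lit 2), (nat_lit 12), (nat_lit 2)],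
  [(nat_lit 11), (nat_lit 1), (nat_lit 6), (nat_lit 12), (nat_lit 1), (nat_lit 11), (nat_lit 5), (nat_lit 2), (nat_lit 12), (nat_lit 5), (nat_lit 11), (nat_lit 1), (nat_lit 6), (nat_lit 12), (nat_lit 2), (nat_lit 11), (nat_lit 5), (nat_lit 2), (nat_lit 12), (nat_lit 6)]],
  [[(nat_lit 11), (nat_lit 1), (nat_lit 6), (nat_lit 12), (nat_lit 3), (nat_lit 1), (nat_lit 4), (nat_lit 11), (nat_lit 5), (nat_lit 2), (nat_lit 12), (nat_lit 1), (nat_lit 11), (nat_lit 1), (nat_lit 6), (nat_lit 12), (nat_lit 3), (nat_lit 2), (nat_lit 4), (nat_lit 11), (nat_lit 5), (nat_lit 2), (nat_lit 12), (nat_lit 2)],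
  [(nat_lit 11), (nat_lit 1), (nat_lit 6), (nat_lit 12), (nat_lit 3), (nat_lit 1), (nat_lit 4), (nat_lit 11), (nat_lit 5), (nat_lit 2), (nat_lit 12), (nat_lit 5), (nat_lit 11), (nat_lit 1), (nat_lit 6), (nat_lit 12), (nat_lit 3), (nat_lit 2), (nat_lit 4), (nat_lit 11), (nat_lit 5), (nat_lit 2), (nat_lit 12), (nat_lit 6)]],
  [[(nat_lit 11), (nat_lit 1), (nat_lit 6), (nat_lit 12), (nat_lit 5), (nat_lit 11), (nat_lit 5), (nat_lit 2), (nat_lit 12), (nat_lit 1), (nat_lit 11), (nat_lit 1), (nat_lit 6), (nat_lit 12), (nat_lit 6), (nat_lit 11), (nat_lit 5), (nat_lit 2), (nat_lit 12), (nat_lit 2)],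
  [(nat_lit 11), (nat_lit 1), (nat_lit 6), (nat_lit 12), (nat_lit 5), (nat_lit 11), (nat_lit 5), (nat_lit 2), (nat_lit 12), (nat_lit 5), (nat_lit 11), (nat_lit 1), (nat_lit 6), (nat_lit 12), (nat_lit 6), (nat_lit 11), (nat_lit 5), (nat_lit 2), (nat_lit 12), (nat_lit 6)]],
  [[(nat_lit 11), (nat_lit 1), (nat_lit 6), (nat_lit 12), (nat_lit 7), (nat_lit 5), (nat_lit 8), (nat_lit 11), (nat_lit 5), (nat_lit 2), (nat_lit 12), (nat_lit 1), (nat_lit 11), (nat_lit 1), (nat_lit 6), (nat_lit 12), (nat_lit 7), (nat_lit 6), (nat_lit 8), (nat_lit 11), (nat_lit 5), (nat_lit 2), (nat_lit 12), (nat_lit 2)],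
  [(nat_lit 11), (nat_lit 1), (nat_lit 6), (nat_lit 12), (nat_lit 7), (nat_lit 5), (nat_lit 8), (nat_lit 11), (nat_lit 5), (nat_lit 2), (nat_lit 12), (nat_lit 5), (nat_lit 11), (nat_lit 1), (nat_lit 6), (nat_lit 12), (nat_lit 7), (nat_lit 6), (nat_lit 8), (nat_lit 11), (nat_lit 5), (nat_lit 2), (nat_lit 12), (nat_lit 6)]],
  [[(nat_lit 11), (nat_lit 1), (nat_lit 6), (nat_lit 12), (nat_lit 1), (nat_lit 5), (nat_lit 11), (nat_lit 5), (nat_lit 2), (nat_lit 12), (nat_lit 1), (nat_lit 11), (nat_lit 1), (nat_lit 6), (nat_lit 12), (nat_lit 6), (nat_lit 2), (nat_lit 11), (nat_lit 5), (nat_lit 2), (nat_lit 12), (nat_lit 2)],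
  [(nat_lit 11), (nat_lit 1), (nat_lit 6), (nat_lit 12), (nat_lit 1), (nat_lit 5), (nat_lit 11), (nat_lit 5), (nat_lit 2), (nat_lit 12), (nat_lit 5), (nat_lit 11), (nat_lit 1), (nat_lit 6), (nat_lit 12), (nat_lit 6), (nat_lit 2), (nat_lit 11), (nat_lit 5), (nat_lit 2), (nat_lit 12), (nat_lit 6)]],
  [[(nat_lit 11), (nat_lit 1), (nat_lit 6), (nat_lit 12), (nat_lit 1), (nat_lit 6), (nat_lit 11), (nat_lit 5), (nat_lit 2), (nat_lit 12), (nat_lit 1), (nat_lit 11), (nat_lit 1), (nat_lit 6), (nat_lit 12), (nat_lit 5), (nat_lit 2), (nat_lit 11), (nat_lit 5), (nat_lit 2), (nat_lit 12), (nat_lit 2)],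
  [(nat_lit 11), (nat_lit 1), (nat_lit 6), (nat_lit 12), (nat_lit 1), (nat_lit 6), (nat_lit 11), (nat_lit 5), (nat_lit 2), (nat_lit 12), (nat_lit 5), (nat_lit 11), (nat_lit 1), (nat_lit 6), (nat_lit 12), (nat_lit 5), (nat_lit 2), (nat_lit 11), (nat_lit 5), (nat_lit 2), (nat_lit 12), (nat_lit 6)]],
  [[(nat_lit 11), (nat_lit 1), (nat_lit 6), (nat_lit 12), (nat_lit 1), (nat_lit 7), (nat_lit 5), (nat_lit 8), (nat_lit 11), (nat_lit 5), (nat_lit 2), (nat_lit 12), (nat_lit 1), (nat_lit 11), (nat_lit 1), (nat_lit 6), (nat_lit 12), (nat_lit 7), (nat_lit 6), (nat_lit 8), (nat_lit 2), (nat_lit 11), (nat_lit 5), (nat_lit 2), (nat_lit 12), (nat_lit 2)],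
  [(nat_lit 11), (nat_lit 1), (nat_lit 6), (nat_lit 12), (nat_lit 1), (nat_lit 7), (nat_lit 5), (nat_lit 8), (nat_lit 11), (nat_lit 5), (nat_lit 2), (nat_lit 12), (nat_lit 5), (nat_lit 11), (nat_lit 1), (nat_lit 6), (nat_lit 12), (nat_lit 7), (nat_lit 6), (nat_lit 8), (nat_lit 2), (nat_lit 11), (nat_lit 5), (nat_lit 2), (nat_lit 12), (nat_lit 6)]],
  [[(nat_lit 11), (nat_lit 1), (nat_lit 6), (nat_lit 12), (nat_lit 1), (nat_lit 7), (nat_lit 6), (nat_lit 8), (nat_lit 11), (nat_lit 5), (nat_lit 2), (nat_lit 12), (nat_lit 1), (nat_lit 11), (nat_lit 1), (nat_lit 6), (nat_lit 12), (nat_lit 7), (nat_lit 5), (nat_lit 8), (nat_lit 2), (nat_lit 11), (nat_lit 5), (nat_lit 2), (nat_lit 12), (nat_lit 2)],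
  [(nat_lit 11), (nat_lit 1), (nat_lit 6), (nat_lit 12), (nat_lit 1), (nat_lit 7), (nat_lit 6), (nat_lit 8), (nat_lit 11), (nat_lit 5), (nat_lit 2), (nat_lit 12), (nat_lit 5), (nat_lit 11), (nat_lit 1), (nat_lit 6), (nat_lit 12), (nat_lit 7), (nat_lit 5), (nat_lit 8), (nat_lit 2), (nat_lit 11), (nat_lit 5), (nat_lit 2), (nat_lit 12), (nat_lit 6)]],
  [[(nat_lit 11), (nat_lit 1), (nat_lit 6), (nat_lit 12), (nat_lit 3), (nat_lit 1), (nat_lit 4), (nat_lit 5), (nat_lit 11), (nat_lit 5), (nat_lit 2), (nat_lit 12), (nat_lit 1), (nat_lit 11), (nat_lit 1), (nat_lit 6), (nat_lit 12), (nat_lit 6), (nat_lit 3), (nat_lit 2), (nat_lit 4), (nat_lit 11), (nat_lit 5), (nat_lit 2), (nat_lit 12), (nat_lit 2)],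
  [(nat_lit 11), (nat_lit 1), (nat_lit 6), (nat_lit 12), (nat_lit 3), (nat_lit 1), (nat_lit 4), (nat_lit 5), (nat_lit 11), (nat_lit 5), (nat_lit 2), (nat_lit 12), (nat_lit 5), (nat_lit 11), (nat_lit 1), (nat_lit 6), (nat_lit 12), (nat_lit 6), (nat_lit 3), (nat_lit 2), (nat_lit 4), (nat_lit 11), (nat_lit 5), (nat_lit 2), (nat_lit 12), (nat_lit 6)]],
  [[(nat_lit 11), (nat_lit 1), (nat_lit 6), (nat_lit 12), (nat_lit 3), (nat_lit 1), (nat_lit 4), (nat_lit 6), (nat_lit 11), (nat_lit 5), (nat_lit 2), (nat_lit 12), (nat_lit 1), (nat_lit 11), (nat_lit 1), (nat_lit 6), (nat_lit 12), (nat_lit 5), (nat_lit 3), (nat_lit 2), (nat_lit 4), (nat_lit 11), (nat_lit 5), (nat_lit 2), (nat_lit 12), (nat_lit 2)],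
  [(nat_lit 11), (nat_lit 1), (nat_lit 6), (nat_lit 12), (nat_lit 3), (nat_lit 1), (nat_lit 4), (nat_lit 6), (nat_lit 11), (nat_lit 5), (nat_lit 2), (nat_lit 12), (nat_lit 5), (nat_lit 11), (nat_lit 1), (nat_lit 6), (nat_lit 12), (nat_lit 5), (nat_lit 3), (nat_lit 2), (nat_lit 4), (nat_lit 11), (nat_lit 5), (nat_lit 2), (nat_lit 12), (nat_lit 6)]],
  [[(nat_lit 11), (nat_lit 1), (nat_lit 6), (nat_lit 12), (nat_lit 3), (nat_lit 1), (nat_lit 4), (nat_lit 7), (nat_lit 5), (nat_lit 8), (nat_lit 11), (nat_lit 5), (nat_lit 2), (nat_lit 12), (nat_lit 1), (nat_lit 11), (nat_lit 1), (nat_lit 6), (nat_lit 12), (nat_lit 7), (nat_lit 6), (nat_lit 8), (nat_lit 3), (nat_lit 2), (nat_lit 4), (nat_lit 11), (nat_lit 5), (nat_lit 2), (nat_lit 12), (nat_lit 2)],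
  [(nat_lit 11), (nat_lit 1), (nat_lit 6), (nat_lit 12), (nat_lit 3), (nat_lit 1), (nat_lit 4), (nat_lit 7), (nat_lit 5), (nat_lit 8), (nat_lit 11), (nat_lit 5), (nat_lit 2), (nat_lit 12), (nat_lit 5), (nat_lit 11), (nat_lit 1), (nat_lit 6), (nat_lit 12), (nat_lit 7), (nat_lit 6), (nat_lit 8), (nat_lit 3), (nat_lit 2), (nat_lit 4), (nat_lit 11), (nat_lit 5), (nat_lit 2), (nat_lit 12), (nat_lit 6)]],
  [[(nat_lit 11), (nat_lit 1), (nat_lit 6), (nat_lit 12), (nat_lit 3), (nat_lit 1), (nat_lit 4), (nat_lit 7), (nat_lit 6), (nat_lit 8), (nat_lit 11), (nat_lit 5), (nat_lit 2), (nat_lit 12), (nat_lit 1), (nat_lit 11), (nat_lit 1), (nat_lit 6), (nat_lit 12), (nat_lit 7), (nat_lit 5), (nat_lit 8), (nat_lit 3), (nat_lit 2), (nat_lit 4), (nat_lit 11), (nat_lit 5), (nat_lit 2), (nat_lit 12), (nat_lit 2)],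
  [(nat_lit 11), (nat_lit 1), (nat_lit 6), (nat_lit 12), (nat_lit 3), (nat_lit 1), (nat_lit 4), (nat_lit 7), (nat_lit 6), (nat_lit 8), (nat_lit 11), (nat_lit 5), (nat_lit 2), (nat_lit 12), (nat_lit 5), (nat_lit 11), (nat_lit 1), (nat_lit 6), (nat_lit 12), (nat_lit 7), (nat_lit 5), (nat_lit 8), (nat_lit 3), (nat_lit 2), (nat_lit 4), (nat_lit 11), (nat_lit 5), (nat_lit 2), (nat_lit 12), (nat_lit 6)]],
  [[(nat_lit 11), (nat_lit 5), (nat_lit 2), (nat_lit 12), (nat_lit 1), (nat_lit 11), (nat_lit 1), (nat_lit 6), (nat_lit 12), (nat_lit 1), (nat_lit 11), (nat_lit 5), (nat_lit 2), (nat_lit 12), (nat_lit 2), (nat_lit 11), (nat_lit 1), (nat_lit 6), (nat_lit 12), (nat_lit 2)],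
  [(nat_lit 11), (nat_lit 5), (nat_lit 2), (nat_lit 12), (nat_lit 1), (nat_lit 11), (nat_lit 1), (nat_lit 6), (nat_lit 12), (nat_lit 5), (nat_lit 11), (nat_lit 5), (nat_lit 2), (nat_lit 12), (nat_lit 2), (nat_lit 11), (nat_lit 1), (nat_lit 6), (nat_lit 12), (nat_lit 6)]],
  [[(nat_lit 11), (nat_lit 5), (nat_lit 2), (nat_lit 12), (nat_lit 3), (nat_lit 1), (nat_lit 4), (nat_lit 11), (nat_lit 1), (nat_lit 6), (nat_lit 12), (nat_lit 1), (nat_lit 11), (nat_lit 5), (nat_lit 2), (nat_lit 12), (nat_lit 3), (nat_lit 2), (nat_lit 4), (nat_lit 11), (nat_lit 1), (nat_lit 6), (nat_lit 12), (nat_lit 2)],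
  [(nat_lit 11), (nat_lit 5), (nat_lit 2), (nat_lit 12), (nat_lit 3), (nat_lit 1), (nat_lit 4), (nat_lit 11), (nat_lit 1), (nat_lit 6), (nat_lit 12), (nat_lit 5), (nat_lit 11), (nat_lit 5), (nat_lit 2), (nat_lit 12), (nat_lit 3), (nat_lit 2), (nat_lit 4), (nat_lit 11), (nat_lit 1), (nat_lit 6), (nat_lit 12), (nat_lit 6)]],
  [[(nat_lit 11), (nat_lit 5), (nat_lit 2), (nat_lit 12), (nat_lit 5), (nat_lit 11), (nat_lit 1), (nat_lit 6), (nat_lit 12), (nat_lit 1), (nat_lit 11), (nat_lit 5), (nat_lit 2), (nat_lit 12), (nat_lit 6), (nat_lit 11), (nat_lit 1), (nat_lit 6), (nat_lit 12), (nat_lit 2)],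
  [(nat_lit 11), (nat_lit 5), (nat_lit 2), (nat_lit 12), (nat_lit 5), (nat_lit 11), (nat_lit 1), (nat_lit 6), (nat_lit 12), (nat_lit 5), (nat_lit 11), (nat_lit 5), (nat_lit 2), (nat_lit 12), (nat_lit 6), (nat_lit 11), (nat_lit 1), (nat_lit 6), (nat_lit 12), (nat_lit 6)]],
  [[(nat_lit 11), (nat_lit 5), (nat_lit 2), (nat_lit 12), (nat_lit 7), (nat_lit 5), (nat_lit 8), (nat_lit 11), (nat_lit 1), (nat_lit 6), (nat_lit 12), (nat_lit 1), (nat_lit 11), (nat_lit 5), (nat_lit 2), (nat_lit 12), (nat_lit 7), (nat_lit 6), (nat_lit 8), (nat_lit 11), (nat_lit 1), (nat_lit 6), (nat_lit 12), (nat_lit 2)],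
  [(nat_lit 11), (nat_lit 5), (nat_lit 2), (nat_lit 12), (nat_lit 7), (nat_lit 5), (nat_lit 8), (nat_lit 11), (nat_lit 1), (nat_lit 6), (nat_lit 12), (nat_lit 5), (nat_lit 11), (nat_lit 5), (nat_lit 2), (nat_lit 12), (nat_lit 7), (nat_lit 6), (nat_lit 8), (nat_lit 11), (nat_lit 1), (nat_lit 6), (nat_lit 12), (nat_lit 6)]],
  [[(nat_lit 11), (nat_lit 5), (nat_lit 2), (nat_lit 12), (nat_lit 1), (nat_lit 5), (nat_lit 11), (nat_lit 1), (nat_lit 6), (nat_lit 12), (nat_lit 1), (nat_lit 11), (nat_lit 5), (nat_lit 2), (nat_lit 12), (nat_lit 6), (nat_lit 2), (nat_lit 11), (nat_lit 1), (nat_lit 6), (nat_lit 12), (nat_lit 2)],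
  [(nat_lit 11), (nat_lit 5), (nat_lit 2), (nat_lit 12), (nat_lit 1), (nat_lit 5), (nat_lit 11), (nat_lit 1), (nat_lit 6), (nat_lit 12), (nat_lit 5), (nat_lit 11), (nat_lit 5), (nat_lit 2), (nat_lit 12), (nat_lit 6), (nat_lit 2), (nat_lit 11), (nat_lit 1), (nat_lit 6), (nat_lit 12), (nat_lit 6)]],
  [[(nat_lit 11), (nat_lit 5), (nat_lit 2), (nat_lit 12), (nat_lit 1), (nat_lit 6), (nat_lit 11), (nat_lit 1), (nat_lit 6), (nat_lit 12), (nat_lit 1), (nat_lit 11), (nat_lit 5), (nat_lit 2), (nat_lit 12), (nat_lit 5), (nat_lit 2), (nat_lit 11), (nat_lit 1), (nat_lit 6), (nat_lit 12), (nat_lit 2)],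
  [(nat_lit 11), (nat_lit 5), (nat_lit 2), (nat_lit 12), (nat_lit 1), (nat_lit 6), (nat_lit 11), (nat_lit 1), (nat_lit 6), (nat_lit 12), (nat_lit 5), (nat_lit 11), (nat_lit 5), (nat_lit 2), (nat_lit 12), (nat_lit 5), (nat_lit 2), (nat_lit 11), (nat_lit 1), (nat_lit 6), (nat_lit 12), (nat_lit 6)]],
  [[(nat_lit 11), (nat_lit 5), (nat_lit 2), (nat_lit 12), (nat_lit 1), (nat_lit 7), (nat_lit 5), (nat_lit 8), (nat_lit 11), (nat_lit 1), (nat_lit 6), (nat_lit 12), (nat_lit 1), (nat_lit 11), (nat_lit 5), (nat_lit 2), (nat_lit 12), (nat_lit 7), (nat_lit 6), (nat_lit 8), (nat_lit 2), (nat_lit 11), (nat_lit 1), (nat_lit 6), (nat_lit 12), (nat_lit 2)],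
  [(nat_lit 11), (nat_lit 5), (nat_lit 2), (nat_lit 12), (nat_lit 1), (nat_lit 7), (nat_lit 5), (nat_lit 8), (nat_lit 11), (nat_lit 1), (nat_lit 6), (nat_lit 12), (nat_lit 5), (nat_lit 11), (nat_lit 5), (nat_lit 2), (nat_lit 12), (nat_lit 7), (nat_lit 6), (nat_lit 8), (nat_lit 2), (nat_lit 11), (nat_lit 1), (nat_lit 6), (nat_lit 12), (nat_lit 6)]],
  [[(nat_lit 11), (nat_lit 5), (nat_lit 2), (nat_lit 12), (nat_lit 1), (nat_lit 7), (nat_lit 6), (nat_lit 8), (nat_lit 11), (nat_lit 1), (nat_lit 6), (nat_lit 12), (nat_lit 1), (nat_lit 11), (nat_lit 5), (nat_lit 2), (nat_lit 12), (nat_lit 7), (nat_lit 5), (nat_lit 8), (nat_lit 2), (nat_lit 11), (nat_lit 1), (nat_lit 6), (nat_lit 12), (nat_lit 2)],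
  [(nat_lit 11), (nat_lit 5), (nat_lit 2), (nat_lit 12), (nat_lit 1), (nat_lit 7), (nat_lit 6), (nat_lit 8), (nat_lit 11), (nat_lit 1), (nat_lit 6), (nat_lit 12), (nat_lit 5), (nat_lit 11), (nat_lit 5), (nat_lit 2), (nat_lit 12), (nat_lit 7), (nat_lit 5), (nat_lit 8), (nat_lit 2), (nat_lit 11), (nat_lit 1), (nat_lit 6), (nat_lit 12), (nat_lit 6)]],
  [[(nat_lit 11), (nat_lit 5), (nat_lit 2), (nat_lit 12), (nat_lit 3), (nat_lit 1), (nat_lit 4), (nat_lit 5), (nat_lit 11), (nat_lit 1), (nat_lit 6), (nat_lit 12), (nat_lit 1), (nat_lit 11), (nat_lit 5), (nat_lit 2), (nat_lit 12), (nat_lit 6), (nat_lit 3), (nat_lit 2), (nat_lit 4), (nat_lit 11), (nat_lit 1), (nat_lit 6), (nat_lit 12), (nat_lit 2)],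
  [(nat_lit 11), (nat_lit 5), (nat_lit 2), (nat_lit 12), (nat_lit 3), (nat_lit 1), (nat_lit 4), (nat_lit 5), (nat_lit 11), (nat_lit 1), (nat_lit 6), (nat_lit 12), (nat_lit 5), (nat_lit 11), (nat_lit 5), (nat_lit 2), (nat_lit 12), (nat_lit 6), (nat_lit 3), (nat_lit 2), (nat_lit 4), (nat_lit 11), (nat_lit 1), (nat_lit 6), (nat_lit 12), (nat_lit 6)]],
  [[(nat_lit 11), (nat_lit 5), (nat_lit 2), (nat_lit 12), (nat_lit 3), (nat_lit 1), (nat_lit 4), (nat_lit 6), (nat_lit 11), (nat_lit 1), (nat_lit 6), (nat_lit 12), (nat_lit 1), (nat_lit 11), (nat_lit 5), (nat_lit 2), (nat_lit 12), (nat_lit 5), (nat_lit 3), (nat_lit 2), (nat_lit 4), (nat_lit 11), (nat_lit 1), (nat_lit 6), (nat_lit 12), (nat_lit 2)],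
  [(nat_lit 11), (nat_lit 5), (nat_lit 2), (nat_lit 12), (nat_lit 3), (nat_lit 1), (nat_lit 4), (nat_lit 6), (nat_lit 11), (nat_lit 1), (nat_lit 6), (nat_lit 12), (nat_lit 5), (nat_lit 11), (nat_lit 5), (nat_lit 2), (nat_lit 12), (nat_lit 5), (nat_lit 3), (nat_lit 2), (nat_lit 4), (nat_lit 11), (nat_lit 1), (nat_lit 6), (nat_lit 12), (nat_lit 6)]],
  [[(nat_lit 11), (nat_lit 5), (nat_lit 2), (nat_lit 12), (nat_lit 3), (nat_lit 1), (nat_lit 4), (nat_lit 7), (nat_lit 5), (nat_lit 8), (nat_lit 11), (nat_lit 1), (nat_lit 6), (nat_lit 12), (nat_lit 1), (nat_lit 11), (nat_lit 5), (nat_lit 2), (nat_lit 12), (nat_lit 7), (nat_lit 6), (nat_lit 8), (nat_lit 3), (nat_lit 2), (nat_lit 4), (nat_lit 11), (nat_lit 1), (nat_lit 6), (nat_lit 12), (nat_lit 2)],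
  [(nat_lit 11), (nat_lit 5), (nat_lit 2), (nat_lit 12), (nat_lit 3), (nat_lit 1), (nat_lit 4), (nat_lit 7), (nat_lit 5), (nat_lit 8), (nat_lit 11), (nat_lit 1), (nat_lit 6), (nat_lit 12), (nat_lit 5), (nat_lit 11), (nat_lit 5), (nat_lit 2), (nat_lit 12), (nat_lit 7), (nat_lit 6), (nat_lit 8), (nat_lit 3), (nat_lit 2), (nat_lit 4), (nat_lit 11), (nat_lit 1), (nat_lit 6), (nat_lit 12), (nat_lit 6)]],
  [[(nat_lit 11), (nat_lit 5), (nat_lit 2), (nat_lit 12), (nat_lit 3), (nat_lit 1), (nat_lit 4), (nat_lit 7), (nat_lit 6), (nat_lit 8), (nat_lit 11), (nat_lit 1), (nat_lit 6), (nat_lit 12), (nat_lit 1), (nat_lit 11), (nat_lit 5), (nat_lit 2), (nat_lit 12), (nat_lit 7), (nat_lit 5), (nat_lit 8), (nat_lit 3), (nat_lit 2), (nat_lit 4), (nat_lit 11), (nat_lit 1), (nat_lit 6), (nat_lit 12), (nat_lit 2)],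
  [(nat_lit 11), (nat_lit 5), (nat_lit 2), (nat_lit 12), (nat_lit 3), (nat_lit 1), (nat_lit 4), (nat_lit 7), (nat_lit 6), (nat_lit 8), (nat_lit 11), (nat_lit 1), (nat_lit 6), (nat_lit 12), (nat_lit 5), (nat_lit 11), (nat_lit 5), (nat_lit 2), (nat_lit 12), (nat_lit 7), (nat_lit 5), (nat_lit 8), (nat_lit 3), (nat_lit 2), (nat_lit 4), (nat_lit 11), (nat_lit 1), (nat_lit 6), (nat_lit 12), (nat_lit 6)]]]

/-- the amalgam with the two commutators -/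
noncomputable def RX (k : Nat) : List (List Nat) := lapp RA (nth [] RC k)


end CF.G23
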