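import Cfsg.Agent.Comp.Pres
import Cfsg.Agent.G23.Rels
import Cfsg.Agent.G23.CD0
import Cfsg.Agent.G23.CD1

set_option autoImplicit false
set_option maxRecDepth 1000000
set_option maxHeartbeats 0
set_option Elab.async false

namespace CF.G23

open CF.Comp

theorem eC0_all : Cov eC0_F 40 12 0 := by
  have h := Cov.zero eC0_F 40
  have h := h.blk (b := 40) eC0_k0_0 rfl
  have h := h.next (y := 1) rfl rfl
  have h := h.blk (b := 40) eC0_k1_0 rfl
  have h := h.next (y := 2) rfl rfl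
  have h := h.blk (b := 40) eC0_k2_0 rfl
  have h := h.next (y := 3) rfl rfl
  have h := h.blk (b := 40) eC0_k3_0 rfl
  have h := h.next (y := 4) rfl rfl
  have h := h.blk (b := 40) eC0_k4_0 rfl
  have h := h.next (y := 5) rfl rfl
  have h := h.blk (b := 40) eC0_k5_0 rfl
  have h := h.next (y := 6) rfl rfl
  have h := h.blk (b := 40) eC0_k6_0 rfl
  have h := h.next (y := 7) rfl rfl
  have h := h.blk (b := 40) eC0_k7_0 rfl
  have h := h.next (y := 8) rfl rfl
  have h := h.blk (b := 40) eC0_k8_0 rfl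
  have h := h.next (y := 9) rfl rfl
  have h := h.blk (b := 40) eC0_k9_0 rfl
  have h := h.next (y := 10) rfl rfl
  have h := h.blk (b := 40) eC0_k10_0 rfl
  have h := h.next (y := 11) rfl rfl
  have h := h.blk (b := 40) eC0_k11_0 rfl
  have h := h.next (y := 12) rfl rfl
  exact h

theorem eC0 : Enum (RX 0) (gensW 5) (gensW 6) 1 :=
  ⟨eC0_cols, eC0_ch, eC0_L, eC0_H, eC0_pb.1, eC0_e.get, [(nat_lit 0), (nat_lit 1), (nat_lit 2), (nat_lit 3), (nat_lit 4), (nat_lit 5), (nat_lit 6), (nat_lit 7), (nat_lit 8), (nat_lit 9), (nat_lit 11), (nat_lit 12)], (nat_lit 16), (nat_lit 6), eC0_rots, eC0_hcs,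
    (nat_lit 2), (nat_lit 12), (nat_lit 4096), (nat_lit 256), (nat_lit 1048576), (nat_lit 262143), (nat_lit 8), (nat_lit 255), (nat_lit 28), (nat_lit 268435455), (nat_lit 10), (nat_lit 40),
    fun _ _ => rfl, fun _ => rfl, fun _ _ => rfl, by decide +kernel, eC0_all.1⟩

theorem eC2_all : Cov eC2_F 28 12 0 := by
  have h := Cov.zero eC2_F 28
  have h := h.blk (b := 28) eC2_k0_0 rfl
  have h := h.next (y := 1) rfl rfl
  have h := h.blk (b := 28) eC2_k1_0 rfl
  have h := h.next (y := 2) rfl rfl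
  have h := h.blk (b := 28) eC2_k2_0 rfl
  have h := h.next (y := 3) rfl rfl
  have h := h.blk (b := 28) eC2_k3_0 rfl
  have h := h.next (y := 4) rfl rfl
  have h := h.blk (b := 28) eC2_k4_0 rfl
  have h := h.next (y := 5) rfl rfl
  have h := h.blk (b := 28) eC2_k5_0 rfl
  have h := h.next (y := 6) rfl rfl
  have h := h.blk (b := 28) eC2_k6_0 rfl
  have h := h.next (y := 7) rfl rfl
  have h := h.blk (b := 28) eC2_k7_0 rfl
  have h := h.next (y := 8) rfl rfl
  have h := h.blk (b := 28) eC2_k8_0 rfl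
  have h := h.next (y := 9) rfl rfl
  have h := h.blk (b := 28) eC2_k9_0 rfl
  have h := h.next (y := 10) rfl rfl
  have h := h.blk (b := 28) eC2_k10_0 rfl
  have h := h.next (y := 11) rfl rfl
  have h := h.blk (b := 28) eC2_k11_0 rfl
  have h := h.next (y := 12) rfl rfl
  exact h

theorem eC2 : Enum (RX 2) (gensW 5) (gensW 6) 1 :=
  ⟨eC2_cols, eC2_ch, eC2_L, eC2_H, eC2_pb.1, eC2_e.get, [(nat_lit 0), (nat_lit 1), (nat_lit 2), (nat_lit 3), (nat_lit 4), (nat_lit 5), (nat_lit 6), (nat_lit 7), (nat_lit 8), (nat_lit 9), (nat_lit 11), (nat_lit 12)], (nat_lit 16), (nat_lit 6), eC2_rots, eC2_hcs,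
    (nat_lit 2), (nat_lit 12), (nat_lit 2048), (nat_lit 256), (nat_lit 524288), (nat_lit 131071), (nat_lit 8), (nat_lit 255), (nat_lit 27), (nat_lit 134217727), (nat_lit 7), (nat_lit 28),
    fun _ _ => rfl, fun _ => rfl, fun _ _ => rfl, by decide +kernel, eC2_all.1⟩

theorem eC3_all : Cov eC3_F 32 12 0 := by
  have h := Cov.zero eC3_F 32
  have h := h.blk (b := 32) eC3_k0_0 rfl
  have h := h.next (y := 1) rfl rfl
  have h := h.blk (b := 32) eC3_k1_0 rfl
  have h := h.next (y := 2) rfl rfl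
  have h := h.blk (b := 32) eC3_k2_0 rfl
  have h := h.next (y := 3) rfl rfl
  have h := h.blk (b := 32) eC3_k3_0 rfl
  have h := h.next (y := 4) rfl rfl
  have h := h.blk (b := 32) eC3_k4_0 rfl
  have h := h.next (y := 5) rfl rfl
  have h := h.blk (b := 32) eC3_k5_0 rfl
  have h := h.next (y := 6) rfl rfl
  have h := h.blk (b := 32) eC3_k6_0 rfl
  have h := h.next (y := 7) rfl rfl
  have h := h.blk (b := 32) eC3_k7_0 rfl
  have h := h.next (y := 8) rfl rfl
  have h := h.blk (b := 32) eC3_k8_0 rfl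
  have h := h.next (y := 9) rfl rfl
  have h := h.blk (b := 32) eC3_k9_0 rfl
  have h := h.next (y := 10) rfl rfl
  have h := h.blk (b := 32) eC3_k10_0 rfl
  have h := h.next (y := 11) rfl rfl
  have h := h.blk (b := 32) eC3_k11_0 rfl
  have h := h.next (y := 12) rfl rfl
  exact h

theorem eC3 : Enum (RX 3) (gensW 5) (gensW 6) 1 :=
  ⟨eC3_cols, eC3_ch, eC3_L, eC3_H, eC3_pb.1, eC3_e.get, [(nat_lit 0), (nat_lit 1), (nat_lit 2), (nat_lit 3), (nat_lit 4), (nat_lit 5), (nat_lit 6), (nat_lit 7), (nat_lit 8), (nat_lit 9), (nat_lit 11), (nat_lit 12)], (nat_lit 16), (nat_lit 6), eC3_rots, eC3_hcs,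
    (nat_lit 2), (nat_lit 12), (nat_lit 2048), (nat_lit 256), (nat_lit 524288), (nat_lit 131071), (nat_lit 8), (nat_lit 255), (nat_lit 26), (nat_lit 67108863), (nat_lit 8), (nat_lit 32),
    fun _ _ => rfl, fun _ => rfl, fun _ _ => rfl, by decide +kernel, eC3_all.1⟩

theorem eC4_all : Cov eC4_F 16 12 0 := by
  have h := Cov.zero eC4_F 16
  have h := h.blk (b := 16) eC4_k0_0 rfl
  have h := h.next (y := 1) rfl rfl
  have h := h.blk (b := 16) eC4_k1_0 rfl
  have h := h.next (y := 2) rfl rfl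
  have h := h.blk (b := 16) eC4_k2_0 rfl
  have h := h.next (y := 3) rfl rfl
  have h := h.blk (b := 16) eC4_k3_0 rfl
  have h := h.next (y := 4) rfl rfl
  have h := h.blk (b := 16) eC4_k4_0 rfl
  have h := h.next (y := 5) rfl rfl
  have h := h.blk (b := 16) eC4_k5_0 rfl
  have h := h.next (y := 6) rfl rfl
  have h := h.blk (b := 16) eC4_k6_0 rfl
  have h := h.next (y := 7) rfl rfl
  have h := h.blk (b := 16) eC4_k7_0 rfl
  have h := h.next (y := 8) rfl rfl
  have h := h.blk (b := 16) eC4_k8_0 rfl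
  have h := h.next (y := 9) rfl rfl
  have h := h.blk (b := 16) eC4_k9_0 rfl
  have h := h.next (y := 10) rfl rfl
  have h := h.blk (b := 16) eC4_k10_0 rfl
  have h := h.next (y := 11) rfl rfl
  have h := h.blk (b := 16) eC4_k11_0 rfl
  have h := h.next (y := 12) rfl rfl
  exact h

theorem eC4 : Enum (RX 4) (gensW 5) (gensW 6) 1 :=
  ⟨eC4_cols, eC4_ch, eC4_L, eC4_H, eC4_pb.1, eC4_e.get, [(nat_lit 0), (nat_lit 1), (nat_lit 2), (nat_lit 3), (nat_lit 4), (nat_lit 5), (nat_lit 6), (nat_lit 7), (nat_lit 8), (nat_lit 9), (nat_lit 11), (nat_lit 12)], (nat_lit 16), (nat_lit 6), eC4_rots, eC4_hcs,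
    (nat_lit 2), (nat_lit 12), (nat_lit 1024), (nat_lit 256), (nat_lit 262144), (nat_lit 65535), (nat_lit 8), (nat_lit 255), (nat_lit 25), (nat_lit 33554431), (nat_lit 4), (nat_lit 16),
    fun _ _ => rfl, fun _ => rfl, fun _ _ => rfl, by decide +kernel, eC4_all.1⟩

theorem eC5_all : Cov eC5_F 12 12 0 := by
  have h := Cov.zero eC5_F 12
  have h := h.blk (b := 12) eC5_k0_0 rfl
  have h := h.next (y := 1) rfl rfl
  have h := h.blk (b := 12) eC5_k1_0 rfl
  have h := h.next (y := 2) rfl rfl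
  have h := h.blk (b := 12) eC5_k2_0 rfl
  have h := h.next (y := 3) rfl rfl
  have h := h.blk (b := 12) eC5_k3_0 rfl
  have h := h.next (y := 4) rfl rfl
  have h := h.blk (b := 12) eC5_k4_0 rfl
  have h := h.next (y := 5) rfl rfl
  have h := h.blk (b := 12) eC5_k5_0 rfl
  have h := h.next (y := 6) rfl rfl
  have h := h.blk (b := 12) eC5_k6_0 rfl
  have h := h.next (y := 7) rfl rfl
  have h := h.blk (b := 12) eC5_k7_0 rfl
  have h := h.next (y := 8) rfl rfl
  have h := h.blk (b := 12) eC5_k8_0 rfl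
  have h := h.next (y := 9) rfl rfl
  have h := h.blk (b := 12) eC5_k9_0 rfl
  have h := h.next (y := 10) rfl rfl
  have h := h.blk (b := 12) eC5_k10_0 rfl
  have h := h.next (y := 11) rfl rfl
  have h := h.blk (b := 12) eC5_k11_0 rfl
  have h := h.next (y := 12) rfl rfl
  exact h

theorem eC5 : Enum (RX 5) (gensW 5) (gensW 6) 1 :=
  ⟨eC5_cols, eC5_ch, eC5_L, eC5_H, eC5_pb.1, eC5_e.get, [(nat_lit 0), (nat_lit 1), (nat_lit 2), (nat_lit 3), (nat_lit 4), (nat_lit 5), (nat_lit 6), (nat_lit 7), (nat_lit 8), (nat_lit 9), (nat_lit 11), (nat_lit 12)], (nat_lit 16), (nat_lit 6), eC5_rots, eC5_hcs,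
    (nat_lit 2), (nat_lit 12), (nat_lit 1024), (nat_lit 128), (nat_lit 131072), (nat_lit 65535), (nat_lit 8), (nat_lit 255), (nat_lit 24), (nat_lit 16777215), (nat_lit 3), (nat_lit 12),
    fun _ _ => rfl, fun _ => rfl, fun _ _ => rfl, by decide +kernel, eC5_all.1⟩

theorem eC6_all : Cov eC6_F 32 12 0 := by
  have h := Cov.zero eC6_F 32
  have h := h.blk (b := 32) eC6_k0_0 rfl
  have h := h.next (y := 1) rfl rfl
  have h := h.blk (b := 32) eC6_k1_0 rfl
  have h := h.next (y := 2) rfl rfl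
  have h := h.blk (b := 32) eC6_k2_0 rfl
  have h := h.next (y := 3) rfl rfl
  have h := h.blk (b := 32) eC6_k3_0 rfl
  have h := h.next (y := 4) rfl rfl
  have h := h.blk (b := 32) eC6_k4_0 rfl
  have h := h.next (y := 5) rfl rfl
  have h := h.blk (b := 32) eC6_k5_0 rfl
  have h := h.next (y := 6) rfl rfl
  have h := h.blk (b := 32) eC6_k6_0 rfl
  have h := h.next (y := 7) rfl rfl
  have h := h.blk (b := 32) eC6_k7_0 rfl
  have h := h.next (y := 8) rfl rfl
  have h := h.blk (b := 32) eC6_k8_0 rfl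
  have h := h.next (y := 9) rfl rfl
  have h := h.blk (b := 32) eC6_k9_0 rfl
  have h := h.next (y := 10) rfl rfl
  have h := h.blk (b := 32) eC6_k10_0 rfl
  have h := h.next (y := 11) rfl rfl
  have h := h.blk (b := 32) eC6_k11_0 rfl
  have h := h.next (y := 12) rfl rfl
  exact h

theorem eC6 : Enum (RX 6) (gensW 5) (gensW 6) 1 :=
  ⟨eC6_cols, eC6_ch, eC6_L, eC6_H, eC6_pb.1, eC6_e.get, [(nat_lit 0), (nat_lit 1), (nat_lit 2), (nat_lit 3), (nat_lit 4), (nat_lit 5), (nat_lit 6), (nat_lit 7), (nat_lit 8), (nat_lit 9), (nat_lit 11), (nat_lit 12)], (nat_lit 16), (nat_lit 6), eC6_rots, eC6_hcs,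
    (nat_lit 2), (nat_lit 12), (nat_lit 2048), (nat_lit 256), (nat_lit 524288), (nat_lit 131071), (nat_lit 8), (nat_lit 255), (nat_lit 27), (nat_lit 134217727), (nat_lit 8), (nat_lit 32),
    fun _ _ => rfl, fun _ => rfl, fun _ _ => rfl, by decide +kernel, eC6_all.1⟩

theorem eC7_all : Cov eC7_F 16 12 0 := by
  have h := Cov.zero eC7_F 16
  have h := h.blk (b := 16) eC7_k0_0 rfl
  have h := h.next (y := 1) rfl rfl
  have h := h.blk (b := 16) eC7_k1_0 rfl
  have h := h.next (y := 2) rfl rfl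
  have h := h.blk (b := 16) eC7_k2_0 rfl
  have h := h.next (y := 3) rfl rfl
  have h := h.blk (b := 16) eC7_k3_0 rfl
  have h := h.next (y := 4) rfl rfl
  have h := h.blk (b := 16) eC7_k4_0 rfl
  have h := h.next (y := 5) rfl rfl
  have h := h.blk (b := 16) eC7_k5_0 rfl
  have h := h.next (y := 6) rfl rfl
  have h := h.blk (b := 16) eC7_k6_0 rfl
  have h := h.next (y := 7) rfl rfl
  have h := h.blk (b := 16) eC7_k7_0 rfl
  have h := h.next (y := 8) rfl rfl
  have h := h.blk (b := 16) eC7_k8_0 rfl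
  have h := h.next (y := 9) rfl rfl
  have h := h.blk (b := 16) eC7_k9_0 rfl
  have h := h.next (y := 10) rfl rfl
  have h := h.blk (b := 16) eC7_k10_0 rfl
  have h := h.next (y := 11) rfl rfl
  have h := h.blk (b := 16) eC7_k11_0 rfl
  have h := h.next (y := 12) rfl rfl
  exact h

theorem eC7 : Enum (RX 7) (gensW 5) (gensW 6) 1 :=
  ⟨eC7_cols, eC7_ch, eC7_L, eC7_H, eC7_pb.1, eC7_e.get, [(nat_lit 0), (nat_lit 1), (nat_lit 2), (nat_lit 3), (nat_lit 4), (nat_lit 5), (nat_lit 6), (nat_lit 7), (nat_lit 8), (nat_lit 9), (nat_lit 11), (nat_lit 12)], (nat_lit 16), (nat_lit 6), eC7_rots, eC7_hcs,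
    (nat_lit 2), (nat_lit 12), (nat_lit 1024), (nat_lit 256), (nat_lit 262144), (nat_lit 65535), (nat_lit 8), (nat_lit 255), (nat_lit 25), (nat_lit 33554431), (nat_lit 4), (nat_lit 16),
    fun _ _ => rfl, fun _ => rfl, fun _ _ => rfl, by decide +kernel, eC7_all.1⟩

theorem eC8_all : Cov eC8_F 32 12 0 := by
  have h := Cov.zero eC8_F 32
  have h := h.blk (b := 32) eC8_k0_0 rfl
  have h := h.next (y := 1) rfl rfl
  have h := h.blk (b := 32) eC8_k1_0 rfl
  have h := h.next (y := 2) rfl rfl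
  have h := h.blk (b := 32) eC8_k2_0 rfl
  have h := h.next (y := 3) rfl rfl
  have h := h.blk (b := 32) eC8_k3_0 rfl
  have h := h.next (y := 4) rfl rfl
  have h := h.blk (b := 32) eC8_k4_0 rfl
  have h := h.next (y := 5) rfl rfl
  have h := h.blk (b := 32) eC8_k5_0 rfl
  have h := h.next (y := 6) rfl rfl
  have h := h.blk (b := 32) eC8_k6_0 rfl
  have h := h.next (y := 7) rfl rfl
  have h := h.blk (b := 32) eC8_k7_0 rfl
  have h := h.next (y := 8) rfl rfl
  have h := h.blk (b := 32) eC8_k8_0 rfl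
  have h := h.next (y := 9) rfl rfl
  have h := h.blk (b := 32) eC8_k9_0 rfl
  have h := h.next (y := 10) rfl rfl
  have h := h.blk (b := 32) eC8_k10_0 rfl
  have h := h.next (y := 11) rfl rfl
  have h := h.blk (b := 32) eC8_k11_0 rfl
  have h := h.next (y := 12) rfl rfl
  exact h

theorem eC8 : Enum (RX 8) (gensW 5) (gensW 6) 1 :=
  ⟨eC8_cols, eC8_ch, eC8_L, eC8_H, eC8_pb.1, eC8_e.get, [(nat_lit 0), (nat_lit 1), (nat_lit 2), (nat_lit 3), (nat_lit 4), (nat_lit 5), (nat_lit 6), (nat_lit 7), (nat_lit 8), (nat_lit 9), (nat_lit 11), (nat_lit 12)], (nat_lit 16), (nat_lit 6), eC8_rots, eC8_hcs,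
    (nat_lit 2), (nat_lit 12), (nat_lit 2048), (nat_lit 256), (nat_lit 524288), (nat_lit 131071), (nat_lit 8), (nat_lit 255), (nat_lit 27), (nat_lit 134217727), (nat_lit 8), (nat_lit 32),
    fun _ _ => rfl, fun _ => rfl, fun _ _ => rfl, by decide +kernel, eC8_all.1⟩

theorem eC9_all : Cov eC9_F 8 12 0 := by
  have h := Cov.zero eC9_F 8
  have h := h.blk (b := 8) eC9_k0_0 rfl
  have h := h.next (y := 1) rfl rfl
  have h := h.blk (b := 8) eC9_k1_0 rfl
  have h := h.next (y := 2) rfl rfl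
  have h := h.blk (b := 8) eC9_k2_0 rfl
  have h := h.next (y := 3) rfl rfl
  have h := h.blk (b := 8) eC9_k3_0 rfl
  have h := h.next (y := 4) rfl rfl
  have h := h.blk (b := 8) eC9_k4_0 rfl
  have h := h.next (y := 5) rfl rfl
  have h := h.blk (b := 8) eC9_k5_0 rfl
  have h := h.next (y := 6) rfl rfl
  have h := h.blk (b := 8) eC9_k6_0 rfl
  have h := h.next (y := 7) rfl rfl
  have h := h.blk (b := 8) eC9_k7_0 rfl
  have h := h.next (y := 8) rfl rfl
  have h := h.blk (b := 8) eC9_k8_0 rfl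
  have h := h.next (y := 9) rfl rfl
  have h := h.blk (b := 8) eC9_k9_0 rfl
  have h := h.next (y := 10) rfl rfl
  have h := h.blk (b := 8) eC9_k10_0 rfl
  have h := h.next (y := 11) rfl rfl
  have h := h.blk (b := 8) eC9_k11_0 rfl
  have h := h.next (y := 12) rfl rfl
  exact h

theorem eC9 : Enum (RX 9) (gensW 5) (gensW 6) 1 :=
  ⟨eC9_cols, eC9_ch, eC9_L, eC9_H, eC9_pb.1, eC9_e.get, [(nat_lit 0), (nat_lit 1), (nat_lit 2), (nat_lit 3), (nat_lit 4), (nat_lit 5), (nat_lit 6), (nat_lit 7), (nat_lit 8), (nat_lit 9), (nat_lit 11), (nat_lit 12)], (nat_lit 16), (nat_lit 6), eC9_rots, eC9_hcs,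
    (nat_lit 2), (nat_lit 12), (nat_lit 512), (nat_lit 128), (nat_lit 65536), (nat_lit 32767), (nat_lit 8), (nat_lit 255), (nat_lit 23), (nat_lit 8388607), (nat_lit 2), (nat_lit 8),
    fun _ _ => rfl, fun _ => rfl, fun _ _ => rfl, by decide +kernel, eC9_all.1⟩

theorem eC10_all : Cov eC10_F 20 12 0 := by
  have h := Cov.zero eC10_F 20
  have h := h.blk (b := 20) eC10_k0_0 rfl
  have h := h.next (y := 1) rfl rfl
  have h := h.blk (b := 20) eC10_k1_0 rfl
  have h := h.next (y := 2) rfl rfl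
  have h := h.blk (b := 20) eC10_k2_0 rfl
  have h := h.next (y := 3) rfl rfl
  have h := h.blk (b := 20) eC10_k3_0 rfl
  have h := h.next (y := 4) rfl rfl
  have h := h.blk (b := 20) eC10_k4_0 rfl
  have h := h.next (y := 5) rfl rfl
  have h := h.blk (b := 20) eC10_k5_0 rfl
  have h := h.next (y := 6) rfl rfl
  have h := h.blk (b := 20) eC10_k6_0 rfl
  have h := h.next (y := 7) rfl rfl
  have h := h.blk (b := 20) eC10_k7_0 rfl
  have h := h.next (y := 8) rfl rfl
  have h := h.blk (b := 20) eC10_k8_0 rfl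
  have h := h.next (y := 9) rfl rfl
  have h := h.blk (b := 20) eC10_k9_0 rfl
  have h := h.next (y := 10) rfl rfl
  have h := h.blk (b := 20) eC10_k10_0 rfl
  have h := h.next (y := 11) rfl rfl
  have h := h.blk (b := 20) eC10_k11_0 rfl
  have h := h.next (y := 12) rfl rfl
  exact h

theorem eC10 : Enum (RX 10) (gensW 5) (gensW 6) 1 :=
  ⟨eC10_cols, eC10_ch, eC10_L, eC10_H, eC10_pb.1, eC10_e.get, [(nat_lit 0), (nat_lit 1), (nat_lit 2), (nat_lit 3), (nat_lit 4), (nat_lit 5), (nat_lit 6), (nat_lit 7), (nat_lit 8), (nat_lit 9), (nat_lit 11), (nat_lit 12)], (nat_lit 16), (nat_lit 6), eC10_rots, eC10_hcs,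
    (nat_lit 2), (nat_lit 12), (nat_lit 2048), (nat_lit 256), (nat_lit 524288), (nat_lit 131071), (nat_lit 8), (nat_lit 255), (nat_lit 27), (nat_lit 134217727), (nat_lit 5), (nat_lit 20),
    fun _ _ => rfl, fun _ => rfl, fun _ _ => rfl, by decide +kernel, eC10_all.1⟩

theorem eC11_all : Cov eC11_F 12 12 0 := by
  have h := Cov.zero eC11_F 12
  have h := h.blk (b := 12) eC11_k0_0 rfl
  have h := h.next (y := 1) rfl rfl
  have h := h.blk (b := 12) eC11_k1_0 rfl
  have h := h.next (y := 2) rfl rfl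
  have h := h.blk (b := 12) eC11_k2_0 rfl
  have h := h.next (y := 3) rfl rfl
  have h := h.blk (b := 12) eC11_k3_0 rfl
  have h := h.next (y := 4) rfl rfl
  have h := h.blk (b := 12) eC11_k4_0 rfl
  have h := h.next (y := 5) rfl rfl
  have h := h.blk (b := 12) eC11_k5_0 rfl
  have h := h.next (y := 6) rfl rfl
  have h := h.blk (b := 12) eC11_k6_0 rfl
  have h := h.next (y := 7) rfl rfl
  have h := h.blk (b := 12) eC11_k7_0 rfl
  have h := h.next (y := 8) rfl rfl
  have h := h.blk (b := 12) eC11_k8_0 rfl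
  have h := h.next (y := 9) rfl rfl
  have h := h.blk (b := 12) eC11_k9_0 rfl
  have h := h.next (y := 10) rfl rfl
  have h := h.blk (b := 12) eC11_k10_0 rfl
  have h := h.next (y := 11) rfl rfl
  have h := h.blk (b := 12) eC11_k11_0 rfl
  have h := h.next (y := 12) rfl rfl
  exact h

theorem eC11 : Enum (RX 11) (gensW 5) (gensW 6) 1 :=
  ⟨eC11_cols, eC11_ch, eC11_L, eC11_H, eC11_pb.1, eC11_e.get, [(nat_lit 0), (nat_lit 1), (nat_lit 2), (nat_lit 3), (nat_lit 4), (nat_lit 5), (nat_lit 6), (nat_lit 7), (nat_lit 8), (nat_lit 9), (nat_lit 11), (nat_lit 12)], (nat_lit 16), (nat_lit 6), eC11_rots, eC11_hcs,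
    (nat_lit 2), (nat_lit 12), (nat_lit 1024), (nat_lit 256), (nat_lit 262144), (nat_lit 65535), (nat_lit 8), (nat_lit 255), (nat_lit 25), (nat_lit 33554431), (nat_lit 3), (nat_lit 12),
    fun _ _ => rfl, fun _ => rfl, fun _ _ => rfl, by decide +kernel, eC11_all.1⟩

theorem eC12_all : Cov eC12_F 20 12 0 := by
  have h := Cov.zero eC12_F 20
  have h := h.blk (b := 20) eC12_k0_0 rfl
  have h := h.next (y := 1) rfl rfl
  have h := h.blk (b := 20) eC12_k1_0 rfl
  have h := h.next (y := 2) rfl rfl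
  have h := h.blk (b := 20) eC12_k2_0 rfl
  have h := h.next (y := 3) rfl rfl
  have h := h.blk (b := 20) eC12_k3_0 rfl
  have h := h.next (y := 4) rfl rfl
  have h := h.blk (b := 20) eC12_k4_0 rfl
  have h := h.next (y := 5) rfl rfl
  have h := h.blk (b := 20) eC12_k5_0 rfl
  have h := h.next (y := 6) rfl rfl
  have h := h.blk (b := 20) eC12_k6_0 rfl
  have h := h.next (y := 7) rfl rfl
  have h := h.blk (b := 20) eC12_k7_0 rfl
  have h := h.next (y := 8) rfl rfl
  have h := h.blk (b := 20) eC12_k8_0 rfl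
  have h := h.next (y := 9) rfl rfl
  have h := h.blk (b := 20) eC12_k9_0 rfl
  have h := h.next (y := 10) rfl rfl
  have h := h.blk (b := 20) eC12_k10_0 rfl
  have h := h.next (y := 11) rfl rfl
  have h := h.blk (b := 20) eC12_k11_0 rfl
  have h := h.next (y := 12) rfl rfl
  exact h

theorem eC12 : Enum (RX 12) (gensW 5) (gensW 6) 1 :=
  ⟨eC12_cols, eC12_ch, eC12_L, eC12_H, eC12_pb.1, eC12_e.get, [(nat_lit 0), (nat_lit 1), (nat_lit 2), (nat_lit 3), (nat_lit 4), (nat_lit 5), (nat_lit 6), (nat_lit 7), (nat_lit 8), (nat_lit 9), (nat_lit 11), (nat_lit 12)], (nat_lit 16), (nat_lit 6), eC12_rots, eC12_hcs,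
    (nat_lit 2), (nat_lit 12), (nat_lit 2048), (nat_lit 256), (nat_lit 524288), (nat_lit 131071), (nat_lit 8), (nat_lit 255), (nat_lit 27), (nat_lit 134217727), (nat_lit 5), (nat_lit 20),
    fun _ _ => rfl, fun _ => rfl, fun _ _ => rfl, by decide +kernel, eC12_all.1⟩

theorem eC13_all : Cov eC13_F 24 12 0 := by
  have h := Cov.zero eC13_F 24
  have h := h.blk (b := 24) eC13_k0_0 rfl
  have h := h.next (y := 1) rfl rfl
  have h := h.blk (b := 24) eC13_k1_0 rfl
  have h := h.next (y := 2) rfl rfl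
  have h := h.blk (b := 24) eC13_k2_0 rfl
  have h := h.next (y := 3) rfl rfl
  have h := h.blk (b := 24) eC13_k3_0 rfl
  have h := h.next (y := 4) rfl rfl
  have h := h.blk (b := 24) eC13_k4_0 rfl
  have h := h.next (y := 5) rfl rfl
  have h := h.blk (b := 24) eC13_k5_0 rfl
  have h := h.next (y := 6) rfl rfl
  have h := h.blk (b := 24) eC13_k6_0 rfl
  have h := h.next (y := 7) rfl rfl
  have h := h.blk (b := 24) eC13_k7_0 rfl
  have h := h.next (y := 8) rfl rfl
  have h := h.blk (b := 24) eC13_k8_0 rfl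
  have h := h.next (y := 9) rfl rfl
  have h := h.blk (b := 24) eC13_k9_0 rfl
  have h := h.next (y := 10) rfl rfl
  have h := h.blk (b := 24) eC13_k10_0 rfl
  have h := h.next (y := 11) rfl rfl
  have h := h.blk (b := 24) eC13_k11_0 rfl
  have h := h.next (y := 12) rfl rfl
  exact h

theorem eC13 : Enum (RX 13) (gensW 5) (gensW 6) 1 :=
  ⟨eC13_cols, eC13_ch, eC13_L, eC13_H, eC13_pb.1, eC13_e.get, [(nat_lit 0), (nat_lit 1), (nat_lit 2), (nat_lit 3), (nat_lit 4), (nat_lit 5), (nat_lit 6), (nat_lit 7), (nat_lit 8), (nat_lit 9), (nat_lit 11), (nat_lit 12)], (nat_lit 16), (nat_lit 6), eC13_rots, eC13_hcs,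
    (nat_lit 2), (nat_lit 12), (nat_lit 2048), (nat_lit 256), (nat_lit 524288), (nat_lit 131071), (nat_lit 8), (nat_lit 255), (nat_lit 26), (nat_lit 67108863), (nat_lit 6), (nat_lit 24),
    fun _ _ => rfl, fun _ => rfl, fun _ _ => rfl, by decide +kernel, eC13_all.1⟩

theorem eC14_all : Cov eC14_F 44 12 0 := by
  have h := Cov.zero eC14_F 44
  have h := h.blk (b := 44) eC14_k0_0 rfl
  have h := h.next (y := 1) rfl rfl
  have h := h.blk (b := 44) eC14_k1_0 rfl
  have h := h.next (y := 2) rfl rfl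
  have h := h.blk (b := 44) eC14_k2_0 rfl
  have h := h.next (y := 3) rfl rfl
  have h := h.blk (b := 44) eC14_k3_0 rfl
  have h := h.next (y := 4) rfl rfl
  have h := h.blk (b := 44) eC14_k4_0 rfl
  have h := h.next (y := 5) rfl rfl
  have h := h.blk (b := 44) eC14_k5_0 rfl
  have h := h.next (y := 6) rfl rfl
  have h := h.blk (b := 44) eC14_k6_0 rfl
  have h := h.next (y := 7) rfl rfl
  have h := h.blk (b := 44) eC14_k7_0 rfl
  have h := h.next (y := 8) rfl rfl
  have h := h.blk (b := 44) eC14_k8_0 rfl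
  have h := h.next (y := 9) rfl rfl
  have h := h.blk (b := 44) eC14_k9_0 rfl
  have h := h.next (y := 10) rfl rfl
  have h := h.blk (b := 44) eC14_k10_0 rfl
  have h := h.next (y := 11) rfl rfl
  have h := h.blk (b := 44) eC14_k11_0 rfl
  have h := h.next (y := 12) rfl rfl
  exact h

theorem eC14 : Enum (RX 14) (gensW 5) (gensW 6) 1 :=
  ⟨eC14_cols, eC14_ch, eC14_L, eC14_H, eC14_pb.1, eC14_e.get, [(nat_lit 0), (nat_lit 1), (nat_lit 2), (nat_lit 3), (nat_lit 4), (nat_lit 5), (nat_lit 6), (nat_lit 7), (nat_lit 8), (nat_lit 9), (nat_lit 11), (nat_lit 12)], (nat_lit 16), (nat_lit 6), eC14_rots, eC14_hcs,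
    (nat_lit 2), (nat_lit 12), (nat_lit 4096), (nat_lit 256), (nat_lit 1048576), (nat_lit 262143), (nat_lit 8), (nat_lit 255), (nat_lit 28), (nat_lit 268435455), (nat_lit 11), (nat_lit 44),
    fun _ _ => rfl, fun _ => rfl, fun _ _ => rfl, by decide +kernel, eC14_all.1⟩

theorem eC16_all : Cov eC16_F 16 12 0 := by
  have h := Cov.zero eC16_F 16
  have h := h.blk (b := 16) eC16_k0_0 rfl
  have h := h.next (y := 1) rfl rfl
  have h := h.blk (b := 16) eC16_k1_0 rfl
  have h := h.next (y := 2) rfl rfl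
  have h := h.blk (b := 16) eC16_k2_0 rfl
  have h := h.next (y := 3) rfl rfl
  have h := h.blk (b := 16) eC16_k3_0 rfl
  have h := h.next (y := 4) rfl rfl
  have h := h.blk (b := 16) eC16_k4_0 rfl
  have h := h.next (y := 5) rfl rfl
  have h := h.blk (b := 16) eC16_k5_0 rfl
  have h := h.next (y := 6) rfl rfl
  have h := h.blk (b := 16) eC16_k6_0 rfl
  have h := h.next (y := 7) rfl rfl
  have h := h.blk (b := 16) eC16_k7_0 rfl
  have h := h.next (y := 8) rfl rfl
  have h := h.blk (b := 16) eC16_k8_0 rfl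
  have h := h.next (y := 9) rfl rfl
  have h := h.blk (b := 16) eC16_k9_0 rfl
  have h := h.next (y := 10) rfl rfl
  have h := h.blk (b := 16) eC16_k10_0 rfl
  have h := h.next (y := 11) rfl rfl
  have h := h.blk (b := 16) eC16_k11_0 rfl
  have h := h.next (y := 12) rfl rfl
  exact h

theorem eC16 : Enum (RX 16) (gensW 5) (gensW 6) 1 :=
  ⟨eC16_cols, eC16_ch, eC16_L, eC16_H, eC16_pb.1, eC16_e.get, [(nat_lit 0), (nat_lit 1), (nat_lit 2), (nat_lit 3), (nat_lit 4), (nat_lit 5), (nat_lit 6), (nat_lit 7), (nat_lit 8), (nat_lit 9), (nat_lit 11), (nat_lit 12)], (nat_lit 16), (nat_lit 6), eC16_rots, eC16_hcs,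
    (nat_lit 2), (nat_lit 12), (nat_lit 1024), (nat_lit 128), (nat_lit 131072), (nat_lit 65535), (nat_lit 8), (nat_lit 255), (nat_lit 25), (nat_lit 33554431), (nat_lit 4), (nat_lit 16),
    fun _ _ => rfl, fun _ => rfl, fun _ _ => rfl, by decide +kernel, eC16_all.1⟩

theorem eC17_all : Cov eC17_F 16 12 0 := by
  have h := Cov.zero eC17_F 16
  have h := h.blk (b := 16) eC17_k0_0 rfl
  have h := h.next (y := 1) rfl rfl
  have h := h.blk (b := 16) eC17_k1_0 rfl
  have h := h.next (y := 2) rfl rfl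
  have h := h.blk (b := 16) eC17_k2_0 rfl
  have h := h.next (y := 3) rfl rfl
  have h := h.blk (b := 16) eC17_k3_0 rfl
  have h := h.next (y := 4) rfl rfl
  have h := h.blk (b := 16) eC17_k4_0 rfl
  have h := h.next (y := 5) rfl rfl
  have h := h.blk (b := 16) eC17_k5_0 rfl
  have h := h.next (y := 6) rfl rfl
  have h := h.blk (b := 16) eC17_k6_0 rfl
  have h := h.next (y := 7) rfl rfl
  have h := h.blk (b := 16) eC17_k7_0 rfl
  have h := h.next (y := 8) rfl rfl
  have h := h.blk (b := 16) eC17_k8_0 rfl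
  have h := h.next (y := 9) rfl rfl
  have h := h.blk (b := 16) eC17_k9_0 rfl
  have h := h.next (y := 10) rfl rfl
  have h := h.blk (b := 16) eC17_k10_0 rfl
  have h := h.next (y := 11) rfl rfl
  have h := h.blk (b := 16) eC17_k11_0 rfl
  have h := h.next (y := 12) rfl rfl
  exact h

theorem eC17 : Enum (RX 17) (gensW 5) (gensW 6) 1 :=
  ⟨eC17_cols, eC17_ch, eC17_L, eC17_H, eC17_pb.1, eC17_e.get, [(nat_lit 0), (nat_lit 1), (nat_lit 2), (nat_lit 3), (nat_lit 4), (nat_lit 5), (nat_lit 6), (nat_lit 7), (nat_lit 8), (nat_lit 9), (nat_lit 11), (nat_lit 12)], (nat_lit 16), (nat_lit 6), eC17_rots, eC17_hcs,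
    (nat_lit 2), (nat_lit 12), (nat_lit 1024), (nat_lit 256), (nat_lit 262144), (nat_lit 65535), (nat_lit 8), (nat_lit 255), (nat_lit 25), (nat_lit 33554431), (nat_lit 4), (nat_lit 16),
    fun _ _ => rfl, fun _ => rfl, fun _ _ => rfl, by decide +kernel, eC17_all.1⟩

theorem eC18_all : Cov eC18_F 36 12 0 := by
  have h := Cov.zero eC18_F 36
  have h := h.blk (b := 36) eC18_k0_0 rfl
  have h := h.next (y := 1) rfl rfl
  have h := h.blk (b := 36) eC18_k1_0 rfl
  have h := h.next (y := 2) rfl rfl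
  have h := h.blk (b := 36) eC18_k2_0 rfl
  have h := h.next (y := 3) rfl rfl
  have h := h.blk (b := 36) eC18_k3_0 rfl
  have h := h.next (y := 4) rfl rfl
  have h := h.blk (b := 36) eC18_k4_0 rfl
  have h := h.next (y := 5) rfl rfl
  have h := h.blk (b := 36) eC18_k5_0 rfl
  have h := h.next (y := 6) rfl rfl
  have h := h.blk (b := 36) eC18_k6_0 rfl
  have h := h.next (y := 7) rfl rfl
  have h := h.blk (b := 36) eC18_k7_0 rfl
  have h := h.next (y := 8) rfl rfl
  have h := h.blk (b := 36) eC18_k8_0 rfl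
  have h := h.next (y := 9) rfl rfl
  have h := h.blk (b := 36) eC18_k9_0 rfl
  have h := h.next (y := 10) rfl rfl
  have h := h.blk (b := 36) eC18_k10_0 rfl
  have h := h.next (y := 11) rfl rfl
  have h := h.blk (b := 36) eC18_k11_0 rfl
  have h := h.next (y := 12) rfl rfl
  exact h

theorem eC18 : Enum (RX 18) (gensW 5) (gensW 6) 1 :=
  ⟨eC18_cols, eC18_ch, eC18_L, eC18_H, eC18_pb.1, eC18_e.get, [(nat_lit 0), (nat_lit 1), (nat_lit 2), (nat_lit 3), (nat_lit 4), (nat_lit 5), (nat_lit 6), (nat_lit 7), (nat_lit 8), (nat_lit 9), (nat_lit 11), (nat_lit 12)], (nat_lit 16), (nat_lit 6), eC18_rots, eC18_hcs,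
    (nat_lit 2), (nat_lit 12), (nat_lit 4096), (nat_lit 256), (nat_lit 1048576), (nat_lit 262143), (nat_lit 8), (nat_lit 255), (nat_lit 27), (nat_lit 134217727), (nat_lit 9), (nat_lit 36),
    fun _ _ => rfl, fun _ => rfl, fun _ _ => rfl, by decide +kernel, eC18_all.1⟩

theorem eC19_all : Cov eC19_F 16 12 0 := by
  have h := Cov.zero eC19_F 16
  have h := h.blk (b := 16) eC19_k0_0 rfl
  have h := h.next (y := 1) rfl rfl
  have h := h.blk (b := 16) eC19_k1_0 rfl
  have h := h.next (y := 2) rfl rfl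
  have h := h.blk (b := 16) eC19_k2_0 rfl
  have h := h.next (y := 3) rfl rfl
  have h := h.blk (b := 16) eC19_k3_0 rfl
  have h := h.next (y := 4) rfl rfl
  have h := h.blk (b := 16) eC19_k4_0 rfl
  have h := h.next (y := 5) rfl rfl
  have h := h.blk (b := 16) eC19_k5_0 rfl
  have h := h.next (y := 6) rfl rfl
  have h := h.blk (b := 16) eC19_k6_0 rfl
  have h := h.next (y := 7) rfl rfl
  have h := h.blk (b := 16) eC19_k7_0 rfl
  have h := h.next (y := 8) rfl rfl
  have h := h.blk (b := 16) eC19_k8_0 rfl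
  have h := h.next (y := 9) rfl rfl
  have h := h.blk (b := 16) eC19_k9_0 rfl
  have h := h.next (y := 10) rfl rfl
  have h := h.blk (b := 16) eC19_k10_0 rfl
  have h := h.next (y := 11) rfl rfl
  have h := h.blk (b := 16) eC19_k11_0 rfl
  have h := h.next (y := 12) rfl rfl
  exact h

theorem eC19 : Enum (RX 19) (gensW 5) (gensW 6) 1 :=
  ⟨eC19_cols, eC19_ch, eC19_L, eC19_H, eC19_pb.1, eC19_e.get, [(nat_lit 0), (nat_lit 1), (nat_lit 2), (nat_lit 3), (nat_lit 4), (nat_lit 5), (nat_lit 6), (nat_lit 7), (nat_lit 8), (nat_lit 9), (nat_lit 11), (nat_lit 12)], (nat_lit 16), (nat_lit 6), eC19_rots, eC19_hcs,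
    (nat_lit 2), (nat_lit 12), (nat_lit 1024), (nat_lit 128), (nat_lit 131072), (nat_lit 65535), (nat_lit 8), (nat_lit 255), (nat_lit 24), (nat_lit 16777215), (nat_lit 4), (nat_lit 16),
    fun _ _ => rfl, fun _ => rfl, fun _ _ => rfl, by decide +kernel, eC19_all.1⟩

theorem eC20_all : Cov eC20_F 20 12 0 := by
  have h := Cov.zero eC20_F 20
  have h := h.blk (b := 20) eC20_k0_0 rfl
  have h := h.next (y := 1) rfl rfl
  have h := h.blk (b := 20) eC20_k1_0 rfl
  have h := h.next (y := 2) rfl rfl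
  have h := h.blk (b := 20) eC20_k2_0 rfl
  have h := h.next (y := 3) rfl rfl
  have h := h.blk (b := 20) eC20_k3_0 rfl
  have h := h.next (y := 4) rfl rfl
  have h := h.blk (b := 20) eC20_k4_0 rfl
  have h := h.next (y := 5) rfl rfl
  have h := h.blk (b := 20) eC20_k5_0 rfl
  have h := h.next (y := 6) rfl rfl
  have h := h.blk (b := 20) eC20_k6_0 rfl
  have h := h.next (y := 7) rfl rfl
  have h := h.blk (b := 20) eC20_k7_0 rfl
  have h := h.next (y := 8) rfl rfl
  have h := h.blk (b := 20) eC20_k8_0 rfl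
  have h := h.next (y := 9) rfl rfl
  have h := h.blk (b := 20) eC20_k9_0 rfl
  have h := h.next (y := 10) rfl rfl
  have h := h.blk (b := 20) eC20_k10_0 rfl
  have h := h.next (y := 11) rfl rfl
  have h := h.blk (b := 20) eC20_k11_0 rfl
  have h := h.next (y := 12) rfl rfl
  exact h

theorem eC20 : Enum (RX 20) (gensW 5) (gensW 6) 1 :=
  ⟨eC20_cols, eC20_ch, eC20_L, eC20_H, eC20_pb.1, eC20_e.get, [(nat_lit 0), (nat_lit 1), (nat_lit 2), (nat_lit 3), (nat_lit 4), (nat_lit 5), (nat_lit 6), (nat_lit 7), (nat_lit 8), (nat_lit 9), (nat_lit 11), (nat_lit 12)], (nat_lit 16), (nat_lit 6), eC20_rots, eC20_hcs,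
    (nat_lit 2), (nat_lit 12), (nat_lit 2048), (nat_lit 256), (nat_lit 524288), (nat_lit 131071), (nat_lit 8), (nat_lit 255), (nat_lit 27), (nat_lit 134217727), (nat_lit 5), (nat_lit 20),
    fun _ _ => rfl, fun _ => rfl, fun _ _ => rfl, by decide +kernel, eC20_all.1⟩

theorem eC21_all : Cov eC21_F 8 12 0 := by
  have h := Cov.zero eC21_F 8
  have h := h.blk (b := 8) eC21_k0_0 rfl
  have h := h.next (y := 1) rfl rfl
  have h := h.blk (b := 8) eC21_k1_0 rfl
  have h := h.next (y := 2) rfl rfl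
  have h := h.blk (b := 8) eC21_k2_0 rfl
  have h := h.next (y := 3) rfl rfl
  have h := h.blk (b := 8) eC21_k3_0 rfl
  have h := h.next (y := 4) rfl rfl
  have h := h.blk (b := 8) eC21_k4_0 rfl
  have h := h.next (y := 5) rfl rfl
  have h := h.blk (b := 8) eC21_k5_0 rfl
  have h := h.next (y := 6) rfl rfl
  have h := h.blk (b := 8) eC21_k6_0 rfl
  have h := h.next (y := 7) rfl rfl
  have h := h.blk (b := 8) eC21_k7_0 rfl
  have h := h.next (y := 8) rfl rfl
  have h := h.blk (b := 8) eC21_k8_0 rfl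
  have h := h.next (y := 9) rfl rfl
  have h := h.blk (b := 8) eC21_k9_0 rfl
  have h := h.next (y := 10) rfl rfl
  have h := h.blk (b := 8) eC21_k10_0 rfl
  have h := h.next (y := 11) rfl rfl
  have h := h.blk (b := 8) eC21_k11_0 rfl
  have h := h.next (y := 12) rfl rfl
  exact h

theorem eC21 : Enum (RX 21) (gensW 5) (gensW 6) 1 :=
  ⟨eC21_cols, eC21_ch, eC21_L, eC21_H, eC21_pb.1, eC21_e.get, [(nat_lit 0), (nat_lit 1), (nat_lit 2), (nat_lit 3), (nat_lit 4), (nat_lit 5), (nat_lit 6), (nat_lit 7), (nat_lit 8), (nat_lit 9), (nat_lit 11), (nat_lit 12)], (nat_lit 16), (nat_lit 6), eC21_rots, eC21_hcs,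
    (nat_lit 2), (nat_lit 12), (nat_lit 512), (nat_lit 128), (nat_lit 65536), (nat_lit 32767), (nat_lit 8), (nat_lit 255), (nat_lit 23), (nat_lit 8388607), (nat_lit 2), (nat_lit 8),
    fun _ _ => rfl, fun _ => rfl, fun _ _ => rfl, by decide +kernel, eC21_all.1⟩

theorem eC22_all : Cov eC22_F 20 12 0 := by
  have h := Cov.zero eC22_F 20
  have h := h.blk (b := 20) eC22_k0_0 rfl
  have h := h.next (y := 1) rfl rfl
  have h := h.blk (b := 20) eC22_k1_0 rfl
  have h := h.next (y := 2) rfl rfl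
  have h := h.blk (b := 20) eC22_k2_0 rfl
  have h := h.next (y := 3) rfl rfl
  have h := h.blk (b := 20) eC22_k3_0 rfl
  have h := h.next (y := 4) rfl rfl
  have h := h.blk (b := 20) eC22_k4_0 rfl
  have h := h.next (y := 5) rfl rfl
  have h := h.blk (b := 20) eC22_k5_0 rfl
  have h := h.next (y := 6) rfl rfl
  have h := h.blk (b := 20) eC22_k6_0 rfl
  have h := h.next (y := 7) rfl rfl
  have h := h.blk (b := 20) eC22_k7_0 rfl
  have h := h.next (y := 8) rfl rfl
  have h := h.blk (b := 20) eC22_k8_0 rfl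
  have h := h.next (y := 9) rfl rfl
  have h := h.blk (b := 20) eC22_k9_0 rfl
  have h := h.next (y := 10) rfl rfl
  have h := h.blk (b := 20) eC22_k10_0 rfl
  have h := h.next (y := 11) rfl rfl
  have h := h.blk (b := 20) eC22_k11_0 rfl
  have h := h.next (y := 12) rfl rfl
  exact h

theorem eC22 : Enum (RX 22) (gensW 5) (gensW 6) 1 :=
  ⟨eC22_cols, eC22_ch, eC22_L, eC22_H, eC22_pb.1, eC22_e.get, [(nat_lit 0), (nat_lit 1), (nat_lit 2), (nat_lit 3), (nat_lit 4), (nat_lit 5), (nat_lit 6), (nat_lit 7), (nat_lit 8), (nat_lit 9), (nat_lit 11), (nat_lit 12)], (nat_lit 16), (nat_lit 6), eC22_rots, eC22_hcs,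
    (nat_lit 2), (nat_lit 12), (nat_lit 2048), (nat_lit 256), (nat_lit 524288), (nat_lit 131071), (nat_lit 8), (nat_lit 255), (nat_lit 26), (nat_lit 67108863), (nat_lit 5), (nat_lit 20),
    fun _ _ => rfl, fun _ => rfl, fun _ _ => rfl, by decide +kernel, eC22_all.1⟩

theorem eC23_all : Cov eC23_F 12 12 0 := by
  have h := Cov.zero eC23_F 12
  have h := h.blk (b := 12) eC23_k0_0 rfl
  have h := h.next (y := 1) rfl rfl
  have h := h.blk (b := 12) eC23_k1_0 rfl
  have h := h.next (y := 2) rfl rfl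
  have h := h.blk (b := 12) eC23_k2_0 rfl
  have h := h.next (y := 3) rfl rfl
  have h := h.blk (b := 12) eC23_k3_0 rfl
  have h := h.next (y := 4) rfl rfl
  have h := h.blk (b := 12) eC23_k4_0 rfl
  have h := h.next (y := 5) rfl rfl
  have h := h.blk (b := 12) eC23_k5_0 rfl
  have h := h.next (y := 6) rfl rfl
  have h := h.blk (b := 12) eC23_k6_0 rfl
  have h := h.next (y := 7) rfl rfl
  have h := h.blk (b := 12) eC23_k7_0 rfl
  have h := h.next (y := 8) rfl rfl
  have h := h.blk (b := 12) eC23_k8_0 rfl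
  have h := h.next (y := 9) rfl rfl
  have h := h.blk (b := 12) eC23_k9_0 rfl
  have h := h.next (y := 10) rfl rfl
  have h := h.blk (b := 12) eC23_k10_0 rfl
  have h := h.next (y := 11) rfl rfl
  have h := h.blk (b := 12) eC23_k11_0 rfl
  have h := h.next (y := 12) rfl rfl
  exact h

theorem eC23 : Enum (RX 23) (gensW 5) (gensW 6) 1 :=
  ⟨eC23_cols, eC23_ch, eC23_L, eC23_H, eC23_pb.1, eC23_e.get, [(nat_lit 0), (nat_lit 1), (nat_lit 2), (nat_lit 3), (nat_lit 4), (nat_lit 5), (nat_lit 6), (nat_lit 7), (nat_lit 8), (nat_lit 9), (nat_lit 11), (nat_lit 12)], (nat_lit 16), (nat_lit 6), eC23_rots, eC23_hcs,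
    (nat_lit 2), (nat_lit 12), (nat_lit 1024), (nat_lit 256), (nat_lit 262144), (nat_lit 65535), (nat_lit 8), (nat_lit 255), (nat_lit 25), (nat_lit 33554431), (nat_lit 3), (nat_lit 12),
    fun _ _ => rfl, fun _ => rfl, fun _ _ => rfl, by decide +kernel, eC23_all.1⟩


end CF.G23
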