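import Cfsg.Agent.Comp.Pres
import Cfsg.Agent.G23.Rels
import Cfsg.Agent.G23.E1K0
import Cfsg.Agent.G23.E1K1
import Cfsg.Agent.G23.E1K2
import Cfsg.Agent.G23.E1K3
import Cfsg.Agent.G23.E1K4

set_option autoImplicit false
set_option maxRecDepth 1000000
set_option maxHeartbeats 0
set_option Elab.async false

open CF.Comp

namespace CF.G23

theorem eC1_all : Cov eC1_F 624 12 0 := by
  have h := Cov.zero eC1_F 624
  have h := h.blk (b := 186) eC1_k0_0 rfl
  have h := h.blk (b := 282) eC1_k0_186 rfl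
  have h := h.blk (b := 385) eC1_k0_282 rfl
  have h := h.blk (b := 476) eC1_k0_385 rfl
  have h := h.blk (b := 593) eC1_k0_476 rfl
  have h := h.blk (b := 624) eC1_k0_593 rfl
  have h := h.next (y := 1) rfl rfl
  have h := h.blk (b := 176) eC1_k1_0 rfl
  have h := h.blk (b := 442) eC1_k1_176 rfl
  have h := h.blk (b := 624) eC1_k1_442 rfl
  have h := h.next (y := 2) rfl rfl
  have h := h.blk (b := 178) eC1_k2_0 rfl
  have h := h.blk (b := 410) eC1_k2_178 rfl
  have h := h.blk (b := 624) eC1_k2_410 rfl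
  have h := h.next (y := 3) rfl rfl
  have h := h.blk (b := 112) eC1_k3_0 rfl
  have h := h.blk (b := 267) eC1_k3_112 rfl
  have h := h.blk (b := 455) eC1_k3_267 rfl
  have h := h.blk (b := 624) eC1_k3_455 rfl
  have h := h.next (y := 4) rfl rfl
  have h := h.blk (b := 109) eC1_k4_0 rfl
  have h := h.blk (b := 263) eC1_k4_109 rfl
  have h := h.blk (b := 440) eC1_k4_263 rfl
  have h := h.blk (b := 624) eC1_k4_440 rfl
  have h := h.next (y := 5) rfl rfl
  have h := h.blk (b := 196) eC1_k5_0 rfl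
  have h := h.blk (b := 491) eC1_k5_196 rfl
  have h := h.blk (b := 624) eC1_k5_491 rfl
  have h := h.next (y := 6) rfl rfl
  have h := h.blk (b := 199) eC1_k6_0 rfl
  have h := h.blk (b := 462) eC1_k6_199 rfl
  have h := h.blk (b := 624) eC1_k6_462 rfl
  have h := h.next (y := 7) rfl rfl
  have h := h.blk (b := 114) eC1_k7_0 rfl
  have h := h.blk (b := 290) eC1_k7_114 rfl
  have h := h.blk (b := 503) eC1_k7_290 rfl
  have h := h.blk (b := 624) eC1_k7_503 rfl
  have h := h.next (y := 8) rfl rfl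
  have h := h.blk (b := 113) eC1_k8_0 rfl
  have h := h.blk (b := 284) eC1_k8_113 rfl
  have h := h.blk (b := 491) eC1_k8_284 rfl
  have h := h.blk (b := 624) eC1_k8_491 rfl
  have h := h.next (y := 9) rfl rfl
  have h := h.blk (b := 120) eC1_k9_0 rfl
  have h := h.blk (b := 273) eC1_k9_120 rfl
  have h := h.blk (b := 444) eC1_k9_273 rfl
  have h := h.blk (b := 619) eC1_k9_444 rfl
  have h := h.blk (b := 624) eC1_k9_619 rfl
  have h := h.next (y := 10) rfl rfl
  have h := h.blk (b := 203) eC1_k10_0 rfl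
  have h := h.blk (b := 507) eC1_k10_203 rfl
  have h := h.blk (b := 624) eC1_k10_507 rfl
  have h := h.next (y := 11) rfl rfl
  have h := h.blk (b := 202) eC1_k11_0 rfl
  have h := h.blk (b := 451) eC1_k11_202 rfl
  have h := h.blk (b := 624) eC1_k11_451 rfl
  have h := h.next (y := 12) rfl rfl
  exact h

theorem eC1 : Enum (RX 1) (gensW 5) (gensW 6) 7371 :=
  ⟨eC1_cols, eC1_ch, eC1_L, eC1_H, eC1_pb.1, eC1_e.get, [(nat_lit 0), (nat_lit 1), (nat_lit 2), (nat_lit 3), (nat_lit 4), (nat_lit 5), (nat_lit 6), (nat_lit 7), (nat_lit 8), (nat_lit 9), (nat_lit 11), (nat_lit 12)], (nat_lit 16), (nat_lit 6), eC1_rots, eC1_hcs,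
    (nat_lit 7372), (nat_lit 12), (nat_lit 65536), (nat_lit 1024), (nat_lit 67108864), (nat_lit 4194303), (nat_lit 8), (nat_lit 255), (nat_lit 35), (nat_lit 0x7ffffffff), (nat_lit 156), (nat_lit 624),
    fun _ _ => rfl, fun _ => rfl, fun _ _ => rfl, by decide +kernel, eC1_all.1⟩

end CF.G23
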