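import Cfsg.Agent.Comp.Pres
import Cfsg.Agent.G23.Rels
import Cfsg.Agent.G23.E15K0
import Cfsg.Agent.G23.E15K1
import Cfsg.Agent.G23.E15K2
import Cfsg.Agent.G23.E15K3
import Cfsg.Agent.G23.E15K4

set_option autoImplicit false
set_option maxRecDepth 1000000
set_option maxHeartbeats 0
set_option Elab.async false

open CF.Comp

namespace CF.G23

theorem eC15_all : Cov eC15_F 620 12 0 := by
  have h := Cov.zero eC15_F 620
  have h := h.blk (b := 183) eC15_k0_0 rfl
  have h := h.blk (b := 277) eC15_k0_183 rfl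
  have h := h.blk (b := 383) eC15_k0_277 rfl
  have h := h.blk (b := 471) eC15_k0_383 rfl
  have h := h.blk (b := 586) eC15_k0_471 rfl
  have h := h.blk (b := 620) eC15_k0_586 rfl
  have h := h.next (y := 1) rfl rfl
  have h := h.blk (b := 176) eC15_k1_0 rfl
  have h := h.blk (b := 444) eC15_k1_176 rfl
  have h := h.blk (b := 620) eC15_k1_444 rfl
  have h := h.next (y := 2) rfl rfl
  have h := h.blk (b := 180) eC15_k2_0 rfl
  have h := h.blk (b := 419) eC15_k2_180 rfl
  have h := h.blk (b := 620) eC15_k2_419 rfl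
  have h := h.next (y := 3) rfl rfl
  have h := h.blk (b := 112) eC15_k3_0 rfl
  have h := h.blk (b := 268) eC15_k3_112 rfl
  have h := h.blk (b := 456) eC15_k3_268 rfl
  have h := h.blk (b := 620) eC15_k3_456 rfl
  have h := h.next (y := 4) rfl rfl
  have h := h.blk (b := 109) eC15_k4_0 rfl
  have h := h.blk (b := 263) eC15_k4_109 rfl
  have h := h.blk (b := 442) eC15_k4_263 rfl
  have h := h.blk (b := 620) eC15_k4_442 rfl
  have h := h.next (y := 5) rfl rfl
  have h := h.blk (b := 198) eC15_k5_0 rfl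
  have h := h.blk (b := 482) eC15_k5_198 rfl
  have h := h.blk (b := 620) eC15_k5_482 rfl
  have h := h.next (y := 6) rfl rfl
  have h := h.blk (b := 198) eC15_k6_0 rfl
  have h := h.blk (b := 449) eC15_k6_198 rfl
  have h := h.blk (b := 620) eC15_k6_449 rfl
  have h := h.next (y := 7) rfl rfl
  have h := h.blk (b := 115) eC15_k7_0 rfl
  have h := h.blk (b := 292) eC15_k7_115 rfl
  have h := h.blk (b := 509) eC15_k7_292 rfl
  have h := h.blk (b := 620) eC15_k7_509 rfl
  have h := h.next (y := 8) rfl rfl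
  have h := h.blk (b := 113) eC15_k8_0 rfl
  have h := h.blk (b := 286) eC15_k8_113 rfl
  have h := h.blk (b := 499) eC15_k8_286 rfl
  have h := h.blk (b := 620) eC15_k8_499 rfl
  have h := h.next (y := 9) rfl rfl
  have h := h.blk (b := 120) eC15_k9_0 rfl
  have h := h.blk (b := 273) eC15_k9_120 rfl
  have h := h.blk (b := 445) eC15_k9_273 rfl
  have h := h.blk (b := 613) eC15_k9_445 rfl
  have h := h.blk (b := 620) eC15_k9_613 rfl
  have h := h.next (y := 10) rfl rfl
  have h := h.blk (b := 206) eC15_k10_0 rfl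
  have h := h.blk (b := 509) eC15_k10_206 rfl
  have h := h.blk (b := 620) eC15_k10_509 rfl
  have h := h.next (y := 11) rfl rfl
  have h := h.blk (b := 204) eC15_k11_0 rfl
  have h := h.blk (b := 457) eC15_k11_204 rfl
  have h := h.blk (b := 620) eC15_k11_457 rfl
  have h := h.next (y := 12) rfl rfl
  exact h

theorem eC15 : Enum (RX 15) (gensW 5) (gensW 6) 7371 :=
  ⟨eC15_cols, eC15_ch, eC15_L, eC15_H, eC15_pb.1, eC15_e.get, [(nat_lit 0), (nat_lit 1), (nat_lit 2), (nat_lit 3), (nat_lit 4), (nat_lit 5), (nat_lit 6), (nat_lit 7), (nat_lit 8), (nat_lit 9), (nat_lit 11), (nat_lit 12)], (nat_lit 16), (nat_lit 6), eC15_rots, eC15_hcs,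
    (nat_lit 7372), (nat_lit 12), (nat_lit 65536), (nat_lit 1024), (nat_lit 67108864), (nat_lit 4194303), (nat_lit 8), (nat_lit 255), (nat_lit 35), (nat_lit 0x7ffffffff), (nat_lit 155), (nat_lit 620),
    fun _ _ => rfl, fun _ => rfl, fun _ _ => rfl, by decide +kernel, eC15_all.1⟩

end CF.G23
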